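import Groth.Agent.DerComp.K302.Loc
import Groth.Agent.DerComp.K780.TeleTri
import Groth.Agent.Dcoh.TensSingle
import Groth.Agent.PerfA.HomologyLinear
import Mathlib.Algebra.Homology.DerivedCategory.ExactFunctor

/-!
# `- ⊗^L O_s` on the derived category of a ringed site

`LTensorCx (O_s[0])` is the functor induced by the exact functor `- ⊗ O_s`; it comes with a natural transformation
from the identity which is an isomorphism on the objects on which `s` is invertible, and `s` is invertible on all its values.
-/

set_option autoImplicit false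

universe v u w v' u'

open CategoryTheory CategoryTheory.Limits Opposite MonoidalCategory

attribute [local instance] HasDerivedCategory.standard

namespace K302.AwayTens

open K302.Loc

variable {C : Type u} [SmallCategory C] {J : GrothendieckTopology C} {O : Sheaf J CommRingCat.{u}}
  (s : DerComp.GSec O)

/-- `O_s` -/
noncomputable abbrev Os : ModSite.Mod O := DerComp.locAway s (ModSite.unit O)

theorem isFlat_Os : ModSite.IsFlat (Os s) := isFlat_locAway s _ (K291.Flat.isFlat_unit O)

/-- `- ⊗ O_s` -/
noncomputable abbrev G : ModSite.Mod O ⥤ ModSite.Mod O := (ModSite.tensorBi O).flip.obj (Os s)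

instance preservesFiniteLimits_G : PreservesFiniteLimits (G s) := (isFlat_Os s).1

instance preservesFiniteColimits_G : PreservesFiniteColimits (G s) := (isFlat_Os s).2

instance additive_G : (G s).Additive := Groth.Agent.Dcoh.KFlatSingle.flip_obj_additive _ _

section Eta

open scoped K291.Mon

/-- `O ⟶ O_s`, as a morphism from the unit object -/
noncomputable def u : 𝟙_ (ModSite.Mod O) ⟶ Os s := DerComp.toLocAway s (ModSite.unit O)

/-- `M ⟶ M ⊗ O_s` -/
noncomputable def eta : 𝟭 (ModSite.Mod O) ⟶ G s where
  app M := (ρ_ M).inv ≫ M ◁ u s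
  naturality M N f := by
    change f ≫ (ρ_ N).inv ≫ N ◁ u s = ((ρ_ M).inv ≫ M ◁ u s) ≫ f ▷ Os s
    rw [rightUnitor_inv_naturality_assoc, Category.assoc, whisker_exchange]

theorem isIso_eta_app (M : ModSite.Mod O) [IsIso (DerComp.smulEnd s M)] : IsIso ((eta s).app M) := by
  have h1 : IsIso (((ModSite.tensorBi O).obj M).map (DerComp.smulEnd s (ModSite.unit O))) := by
    rw [← smul_whisker]
    infer_instance
  have h2 : IsIso (M ◁ u s) := isIso_map_toLocAway s (ModSite.unit O) ((ModSite.tensorBi O).obj M)
  change IsIso ((ρ_ M).inv ≫ M ◁ u s)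
  infer_instance

end Eta

theorem isIso_G_smulEnd (M : ModSite.Mod O) : IsIso ((G s).map (DerComp.smulEnd s M)) := by
  change IsIso (((ModSite.tensorBi O).map (DerComp.smulEnd s M)).app (Os s))
  rw [smul_whisker]
  have := isIso_smulEnd_locAway s (ModSite.unit O)
  infer_instance

section Cx

/-- `K ⟶ K ⊗ O_s` for complexes -/
noncomputable def etaCx : 𝟭 (CochainComplex (ModSite.Mod O) ℤ) ⟶ (G s).mapHomologicalComplex (ComplexShape.up ℤ) where
  app K :=
    { f := fun n => (eta s).app (K.X n)
      comm' := fun i j _ => ((eta s).naturality (K.d i j)).symm }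
  naturality K L f := by
    ext n : 1
    exact (eta s).naturality (f.f n)

theorem quasiIso_etaCx (K : CochainComplex (ModSite.Mod O) ℤ)
    (h : ∀ n, IsIso (DerComp.smulEnd s (K.homology n))) : QuasiIso ((etaCx s).app K) := by
  refine ⟨fun n => ?_⟩
  rw [quasiIsoAt_iff_isIso_homologyMap]
  have h1 := NatTrans.app_homology (eta s) (K.sc n)
  have h2 : IsIso ((eta s).app (K.homology n)) := by
    have := h n
    exact isIso_eta_app s _
  have h3 : IsIso (((K.sc n).mapHomologyIso (𝟭 _)).inv ≫
      ShortComplex.homologyMap ((K.sc n).mapNatTrans (eta s)) ≫ ((K.sc n).mapHomologyIso (G s)).hom) := by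
    rw [← h1]
    exact h2
  have h4 : IsIso (ShortComplex.homologyMap ((K.sc n).mapNatTrans (eta s)) ≫ ((K.sc n).mapHomologyIso (G s)).hom) :=
    IsIso.of_isIso_comp_left ((K.sc n).mapHomologyIso (𝟭 _)).inv _
  have h5 : IsIso (ShortComplex.homologyMap ((K.sc n).mapNatTrans (eta s))) :=
    IsIso.of_isIso_comp_right _ ((K.sc n).mapHomologyIso (G s)).hom
  exact h5

theorem isIso_homology (K : CochainComplex (ModSite.Mod O) ℤ) (h : K780.Tele.Invt s (DerivedCategory.Q.obj K)) (n : ℤ) :
    IsIso (DerComp.smulEnd s (K.homology n)) := by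
  have h0 : IsIso (s • 𝟙 (DerivedCategory.Q.obj K)) := h
  have h1 : IsIso ((DerivedCategory.homologyFunctor (ModSite.Mod O) n).map (s • 𝟙 (DerivedCategory.Q.obj K))) := inferInstance
  rw [Groth.Agent.PerfA.HomologyLinear.homologyFunctor_map_smul_id] at h1
  have h1' : IsIso (s • 𝟙 ((DerivedCategory.Q ⋙ DerivedCategory.homologyFunctor (ModSite.Mod O) n).obj K)) := h1
  have e := (DerivedCategory.homologyFunctorFactors (ModSite.Mod O) n).app K
  have h2 : (s • 𝟙 (K.homology n)) = e.inv ≫ (s • 𝟙 _) ≫ e.hom := by
    rw [Linear.smul_comp, Linear.comp_smul, Category.id_comp, e.inv_hom_id]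
    rfl
  have h4 : IsIso (e.inv ≫ (s • 𝟙 ((DerivedCategory.Q ⋙ DerivedCategory.homologyFunctor (ModSite.Mod O) n).obj K)) ≫
    e.hom) := inferInstance
  have h3 : IsIso (s • 𝟙 (K.homology n)) := by
    rw [h2]
    exact h4
  rwa [DerComp.smul_def, Category.comp_id] at h3

end Cx

section D

/-- the functor on the derived category -/
noncomputable abbrev Φ : DerivedCategory (ModSite.Mod O) ⥤ DerivedCategory (ModSite.Mod O) := (G s).mapDerivedCategory

/-- the natural transformation -/
noncomputable def etaD : 𝟭 (DerivedCategory (ModSite.Mod O)) ⟶ Φ s :=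
  Localization.liftNatTrans DerivedCategory.Q (HomologicalComplex.quasiIso (ModSite.Mod O) (ComplexShape.up ℤ))
    DerivedCategory.Q ((G s).mapHomologicalComplex (ComplexShape.up ℤ) ⋙ DerivedCategory.Q) _ _
    (Functor.whiskerRight (etaCx s) DerivedCategory.Q)

theorem isIso_etaD_app (Y : DerivedCategory (ModSite.Mod O)) (h : K780.Tele.Invt s Y) : IsIso ((etaD s).app Y) := by
  let K := DerivedCategory.Q.objPreimage Y
  let e : DerivedCategory.Q.obj K ≅ Y := DerivedCategory.Q.objObjPreimageIso Y
  rw [← NatTrans.isIso_app_iff_of_iso (etaD s) e]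
  have h1 : K780.Tele.Invt s (DerivedCategory.Q.obj K) := h.of_iso e.symm
  have h2 := quasiIso_etaCx s K (isIso_homology s K h1)
  have h3 : IsIso ((Functor.whiskerRight (etaCx s) DerivedCategory.Q).app K) := by
    change IsIso (DerivedCategory.Q.map ((etaCx s).app K))
    infer_instance
  rw [etaD, Localization.liftNatTrans_app]
  infer_instance

theorem isIso_map_smul (X : DerivedCategory (ModSite.Mod O)) : IsIso ((Φ s).map (s • 𝟙 X)) := by
  let K := DerivedCategory.Q.objPreimage X
  let e : DerivedCategory.Q.obj K ≅ X := DerivedCategory.Q.objObjPreimageIso X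
  have h1 : s • 𝟙 X = e.inv ≫ DerivedCategory.Q.map (s • 𝟙 K) ≫ e.hom := by
    rw [Functor.map_smul, CategoryTheory.Functor.map_id, Linear.smul_comp, Linear.comp_smul]
    simp
  have h2 : IsIso (((G s).mapHomologicalComplex (ComplexShape.up ℤ)).map (s • 𝟙 K)) := by
    have : ∀ n, IsIso ((((G s).mapHomologicalComplex (ComplexShape.up ℤ)).map (s • 𝟙 K)).f n) := by
      intro n
      have h3 : (((G s).mapHomologicalComplex (ComplexShape.up ℤ)).map (s • 𝟙 K)).f n =
          (G s).map (DerComp.smulEnd s (K.X n)) := by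
        rw [Functor.mapHomologicalComplex_map_f]
        congr 1
      rw [h3]
      exact isIso_G_smulEnd s _
    exact HomologicalComplex.Hom.isIso_of_components _
  have h4 : IsIso ((Φ s).map (DerivedCategory.Q.map (s • 𝟙 K))) := by
    have := (G s).mapDerivedCategoryFactors
    exact (NatIso.isIso_map_iff (G s).mapDerivedCategoryFactors (s • 𝟙 K)).2
      (by change IsIso (DerivedCategory.Q.map _); infer_instance)
  rw [h1, Functor.map_comp, Functor.map_comp]
  infer_instance

end D

end K302.AwayTens
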