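import Groth.Agent.ModSite.K294.KFlat2
import Groth.Agent.Sga4h.TensRHom

/-!
# `- ⊗^L P` is computed by K-flat complexes in the first variable
-/

set_option autoImplicit false

universe v u w v' u'

open CategoryTheory CategoryTheory.Limits Opposite

attribute [local instance] HasDerivedCategory.standard

namespace K302.LT

open K294.KFl K294.KFlat2 Groth.Agent.Dcoh

variable {C : Type u} [SmallCategory C] {J : GrothendieckTopology C} {O : Sheaf J CommRingCat.{u}}

theorem acyclic_tensor (X : CochainComplex (ModSite.Mod O) ℤ) (hX : ModSite.IsKFlat X) (hX' : X.Acyclic)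
    (M : ModSite.Mod O) :
    ((((ModSite.tensorBi O).flip.obj M).mapHomologicalComplex (ComplexShape.up ℤ)).obj X).Acyclic := by
  obtain ⟨F', q, hF', -, hq, -⟩ := exists_resolution ((HomologicalComplex.single (ModSite.Mod O) (ComplexShape.up ℤ) 0).obj M)
  have h1 : QuasiIso (((ModSite.tensorCx O).map q).app X) := quasiIso_tensor hX q
  have h2 : (((ModSite.tensorCx O).obj X).obj F').Acyclic := (isKFlat_iff F').1 hF' X hX'
  have h3 : (((ModSite.tensorCx O).obj F').obj X).Acyclic := KFlatSingle.acyclic_of_iso (tensorCxIso X F') h2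
  have h4 : (((ModSite.tensorCx O).obj ((HomologicalComplex.single (ModSite.Mod O) (ComplexShape.up ℤ) 0).obj M)).obj X).Acyclic :=
    fun n => by
      have := h1.quasiIsoAt n
      exact (exactAt_iff_of_quasiIsoAt (((ModSite.tensorCx O).map q).app X) n).1 (h3 n)
  exact KFlatSingle.acyclic_of_iso ((tensorCxIso _ X) ≪≫ (TensSingle.singleRightIsoApp (ModSite.tensorBi O) M X).symm) h4

/-- the counit of `- ⊗^L P` is an isomorphism on K-flat complexes. -/
theorem isIso_counit (P X : CochainComplex (ModSite.Mod O) ℤ) [ModSite.HasLTensorCx P] (hX : ModSite.IsKFlat X) :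
    IsIso (((ModSite.tensorCxQ P).totalLeftDerivedCounit DerivedCategory.Q
      (HomologicalComplex.quasiIso (ModSite.Mod O) (ComplexShape.up ℤ))).app X) :=
  Groth.Agent.Sga4h.TensRHom.isIso_counit (ModSite.tensorBi O) (fun X => ModSite.IsKFlat X)
    (fun f h₁ h₂ => isKFlat_mappingCone f h₁ h₂)
    (fun K => by
      obtain ⟨F', q, hF', -, hq, -⟩ := exists_resolution K
      exact ⟨F', q, hF', hq⟩)
    (fun K hK hK' M => acyclic_tensor K hK hK' M) P (ModSite.LTensorCx P) _ X hX

/-- `X ⊗^L P = Tot (X ⊗ P)` for `X` K-flat. -/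
noncomputable def isoQ (P X : CochainComplex (ModSite.Mod O) ℤ) [ModSite.HasLTensorCx P] (hX : ModSite.IsKFlat X) :
    (ModSite.LTensorCx P).obj (DerivedCategory.Q.obj X) ≅
      DerivedCategory.Q.obj (((ModSite.tensorCx O).obj X).obj P) :=
  haveI := isIso_counit P X hX
  asIso (((ModSite.tensorCxQ P).totalLeftDerivedCounit DerivedCategory.Q
      (HomologicalComplex.quasiIso (ModSite.Mod O) (ComplexShape.up ℤ))).app X)

end K302.LT
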