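import Groth.Agent.DerComp.K780.Away
import Groth.Agent.ModSite.K294.KFlat2
import Groth.Agent.ModSite.K291.Flat
import Mathlib.CategoryTheory.Limits.Constructions.EventuallyConstant

/-!
# The localisation `F_s` of a sheaf of modules as a sequential colimit, and `- ⊗ O_s`
-/

set_option autoImplicit false

universe v u w v' u'

open CategoryTheory CategoryTheory.Limits Opposite MonoidalCategory

namespace K302.Loc

variable {C : Type u} [SmallCategory C] {J : GrothendieckTopology C} {O : Sheaf J CommRingCat.{u}}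
  (s : DerComp.GSec O) (F : ModSite.Mod O)

/-- the system `F →s F →s F → ⋯` -/
noncomputable def seq : ℕ ⥤ ModSite.Mod O := Functor.ofSequence (fun _ : ℕ => DerComp.smulEnd s F)

/-- the canonical maps `F ⟶ colim` -/
noncomputable def ιs (n : ℕ) : F ⟶ colimit (seq s F) := colimit.ι (seq s F) n

theorem seq_map_succ (n : ℕ) : (seq s F).map (homOfLE (Nat.le_succ n)) = DerComp.smulEnd s F :=
  Functor.ofSequence_map_homOfLE_succ _ n

theorem awayMap_eq : DerComp.awayMap s F = 𝟙 (∐ (seq s F).obj) - DerLim.shiftMap (seq s F).obj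
    (fun n => (seq s F).map (homOfLE (Nat.le_succ n))) := by
  rw [K780.Away.awayMap_eq]
  have h : (fun n => (seq s F).map (homOfLE (Nat.le_succ n))) = fun _ => DerComp.smulEnd s F := by
    funext n
    exact seq_map_succ s F n
  rw [h]
  rfl

/-- the map from the coproduct to the colimit -/
noncomputable def dsc : (∐ fun _ : ℕ => F) ⟶ colimit (seq s F) := Sigma.desc (fun n => ιs s F n)

theorem w : DerComp.awayMap s F ≫ dsc s F = 0 := by
  rw [awayMap_eq]
  exact Groth.Agent.Cohder.Telescope.telescope_w (seq s F)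

theorem isColimit_congr {A : Type*} [Category A] [Preadditive A] {X Y Z : A} {f f' : X ⟶ Y} (h : f = f') (π : Y ⟶ Z)
    (w : f ≫ π = 0) (w' : f' ≫ π = 0) (hc : IsColimit (CokernelCofork.ofπ π w')) :
    Nonempty (IsColimit (CokernelCofork.ofπ π w)) := by
  subst h
  exact ⟨hc⟩

theorem nonempty_isColimit : Nonempty (IsColimit (CokernelCofork.ofπ _ (w s F))) :=
  isColimit_congr (awayMap_eq s F) _ _ (Groth.Agent.Cohder.Telescope.telescope_w (seq s F))
    (Groth.Agent.Cohder.Telescope.isColimitTelescope (seq s F))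

/-- `F_s` is the colimit of `F →s F →s ⋯`. -/
noncomputable def iso : DerComp.locAway s F ≅ colimit (seq s F) :=
  (cokernelIsCokernel (DerComp.awayMap s F)).coconePointUniqueUpToIso (nonempty_isColimit s F).some

theorem π_iso : cokernel.π (DerComp.awayMap s F) ≫ (iso s F).hom = dsc s F :=
  (cokernelIsCokernel (DerComp.awayMap s F)).comp_coconePointUniqueUpToIso_hom (nonempty_isColimit s F).some
    WalkingParallelPair.one

theorem toLocAway_iso : DerComp.toLocAway s F ≫ (iso s F).hom = ιs s F 0 := by
  rw [Category.assoc, π_iso, dsc, Sigma.ι_desc]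

/-- `F_s` is flat if `F` is. -/
theorem isFlat_locAway (hF : ModSite.IsFlat F) : ModSite.IsFlat (DerComp.locAway s F) :=
  K294.Flat.isFlat_of_iso (iso s F).symm (K294.Flat.isFlat_colimit_nat _ fun _ => hF)

/-- If a functor preserves sequential colimits and inverts `s` on `F` then it inverts `F ⟶ F_s`. -/
theorem isIso_map_toLocAway {B : Type u'} [Category.{v'} B] (G : ModSite.Mod O ⥤ B) [PreservesColimitsOfShape ℕ G]
    [IsIso (G.map (DerComp.smulEnd s F))] : IsIso (G.map (DerComp.toLocAway s F)) := by
  have h1 : IsIso (G.map (ιs s F 0)) := by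
    have h3 : ∀ n : ℕ, IsIso (G.map ((seq s F).map (homOfLE (Nat.zero_le n)))) := by
      intro n
      induction n with
      | zero =>
        have : homOfLE (Nat.zero_le 0) = 𝟙 0 := rfl
        rw [this, CategoryTheory.Functor.map_id]
        infer_instance
      | succ n ih =>
        have h4 : homOfLE (Nat.zero_le (n + 1)) = homOfLE (Nat.zero_le n) ≫ homOfLE (Nat.le_succ n) := rfl
        have h6 : IsIso (G.map ((seq s F).map (homOfLE (Nat.le_succ n)))) := by
          rw [seq_map_succ s F n]
          assumption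
        rw [h4, Functor.map_comp, Functor.map_comp]
        infer_instance
    have h2 : (seq s F ⋙ G).IsEventuallyConstantFrom 0 := by
      intro j f
      exact h3 j
    exact h2.isIso_ι_of_isColimit (isColimitOfPreserves G (colimit.isColimit (seq s F)))
  have h2 : G.map (ιs s F 0) = G.map (DerComp.toLocAway s F) ≫ G.map (iso s F).hom := by
    rw [← toLocAway_iso, Functor.map_comp]
  rw [h2] at h1
  exact IsIso.of_isIso_comp_right _ (G.map (iso s F).hom)

/-- the maps `x ↦ x / s ^ n` -/
noncomputable def j (n : ℕ) : F ⟶ DerComp.locAway s F :=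
  Sigma.ι (fun _ : ℕ => F) n ≫ cokernel.π (DerComp.awayMap s F)

theorem j_succ (n : ℕ) : j s F n = DerComp.smulEnd s F ≫ j s F (n + 1) := by
  have h : Sigma.ι (fun _ : ℕ => F) n ≫ DerComp.awayMap s F ≫ cokernel.π (DerComp.awayMap s F) = 0 := by
    rw [cokernel.condition, comp_zero]
  rw [← Category.assoc, DerComp.awayMap, Sigma.ι_desc, Preadditive.sub_comp, sub_eq_zero, Category.assoc] at h
  exact h

variable {s F} in
theorem hom_ext {Z : ModSite.Mod O} {f g : DerComp.locAway s F ⟶ Z} (h : ∀ n, j s F n ≫ f = j s F n ≫ g) : f = g := by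
  rw [← cancel_epi (cokernel.π (DerComp.awayMap s F))]
  refine Sigma.hom_ext _ _ fun n => ?_
  have := h n
  rw [j, Category.assoc, Category.assoc] at this
  exact this

theorem exists_desc {Z : ModSite.Mod O} (x : ℕ → (F ⟶ Z)) (hx : ∀ n, x n = DerComp.smulEnd s F ≫ x (n + 1)) :
    ∃ f : DerComp.locAway s F ⟶ Z, ∀ n, j s F n ≫ f = x n := by
  refine ⟨cokernel.desc _ (Sigma.desc x) ?_, fun n => ?_⟩
  · refine Sigma.hom_ext _ _ fun n => ?_
    rw [DerComp.awayMap, Sigma.ι_desc_assoc, Preadditive.sub_comp, Category.assoc, Sigma.ι_desc, Sigma.ι_desc, comp_zero,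
      ← hx n, sub_self]
  · rw [j, Category.assoc, cokernel.π_desc, Sigma.ι_desc]

/-- `s` is invertible on `F_s`. -/
theorem isIso_smulEnd_locAway : IsIso (DerComp.smulEnd s (DerComp.locAway s F)) := by
  obtain ⟨t, ht⟩ := exists_desc s F (fun n => j s F (n + 1)) (fun n => j_succ s F (n + 1))
  refine ⟨t, hom_ext fun n => ?_, hom_ext fun n => ?_⟩
  · rw [← Category.assoc, ← DerComp.smulEnd_comm, Category.assoc, ht, ← j_succ, Category.comp_id]
  · rw [← Category.assoc, ht, ← DerComp.smulEnd_comm, ← j_succ, Category.comp_id]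

section Tensor

open scoped K291.Mon

/-- Multiplication by `s` on a tensor product, through either factor. -/
theorem smul_whisker (M N : ModSite.Mod O) :
    ((ModSite.tensorBi O).map (DerComp.smulEnd s M)).app N = ((ModSite.tensorBi O).obj M).map (DerComp.smulEnd s N) := by
  have h : (K291.Mon.toP O).map (DerComp.smulEnd s M) ▷ (K291.Mon.toP O).obj N =
      (K291.Mon.toP O).obj M ◁ (K291.Mon.toP O).map (DerComp.smulEnd s N) := by
    ext1 X
    refine ModuleCat.MonoidalCategory.tensor_ext (R := O.obj.obj X) fun m n => ?_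
    exact TensorProduct.smul_tmul (R := O.obj.obj X) (s.1 X.unop) m n
  exact congrArg (K291.Mon.shP O).map h

end Tensor

end K302.Loc
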