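import Groth.Agent.DerComp.K780.Iter

/-!
# Completion and nilpotent test objects

In an `R`-linear triangulated category with countable products and a finite list `l` of elements of `R`: a morphism
`f : K ⟶ K'` induces bijections `Hom(K', C) → Hom(K, C)` for all `l`-complete `C` if and only if it induces bijections
`Hom(Z, K) → Hom(Z, K')` for all `Z` on which every `s ∈ l` is nilpotent.
-/

set_option autoImplicit false
set_option linter.unusedSectionVars false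

universe v u w

open CategoryTheory CategoryTheory.Limits Pretriangulated

namespace K302.NilEq

open K780.Tele K780.ShiftAlg

variable {R : Type w} [CommRing R] {T : Type u} [Category.{v} T] [Preadditive T] [HasZeroObject T] [HasShift T ℤ]
  [∀ n : ℤ, (shiftFunctor T n).Additive] [Pretriangulated T] [Linear R T]
  [∀ n : ℤ, Functor.Linear R (shiftFunctor T n)]

/-- `s` is nilpotent on `Z`. -/
def Nil (s : R) (Z : T) : Prop := ∃ n : ℕ, s ^ n • 𝟙 Z = 0

lemma Nil.shift {s : R} {Z : T} (h : Nil s Z) (m : ℤ) : Nil s (Z⟦m⟧) := by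
  obtain ⟨n, hn⟩ := h
  refine ⟨n, ?_⟩
  rw [← CategoryTheory.Functor.map_id, ← Functor.map_smul, hn, Functor.map_zero]

lemma Nil.eq_zero {s : R} {Z L : T} (h : Nil s Z) (hL : Invt s L) (φ : Z ⟶ L) : φ = 0 := by
  obtain ⟨n, hn⟩ := h
  have h1 : s ^ n • φ = 0 := by
    have h2 : (s ^ n • 𝟙 Z) ≫ φ = 0 := by rw [hn, zero_comp]
    rwa [Linear.smul_comp, Category.id_comp] at h2
  clear hn
  induction n with
  | zero => simpa using h1
  | succ n ih =>
    apply ih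
    apply (hL.bijective Z).1
    dsimp only
    rw [smul_smul, ← pow_succ', h1, smul_zero]

section Cone

variable {A B Y : T} {a : A ⟶ B} {b : B ⟶ Y} {c : Y ⟶ A⟦(1 : ℤ)⟧}

lemma Nil.cone {t : R} (h : Triangle.mk a b c ∈ distTriang T) (hA : Nil t A) (hB : Nil t B) : Nil t Y := by
  obtain ⟨m, hm⟩ := hA.shift 1
  obtain ⟨n, hn⟩ := hB
  refine ⟨m + n, ?_⟩
  have h1 : b ≫ (t ^ n • 𝟙 Y) = 0 := by
    rw [Linear.comp_smul, Category.comp_id]
    have h2 : (t ^ n • 𝟙 B) ≫ b = 0 := by rw [hn, zero_comp]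
    rwa [Linear.smul_comp, Category.id_comp] at h2
  obtain ⟨θ, hθ⟩ : ∃ θ : A⟦(1 : ℤ)⟧ ⟶ Y, t ^ n • 𝟙 Y = c ≫ θ := Triangle.yoneda_exact₃ _ h _ h1
  rw [pow_add, mul_smul, hθ, ← Linear.comp_smul]
  have h3 : t ^ m • θ = (t ^ m • 𝟙 (A⟦(1 : ℤ)⟧)) ≫ θ := by rw [Linear.smul_comp, Category.id_comp]
  rw [h3, hm, zero_comp, comp_zero]

lemma nil_cone {s : R} {Z : T} {b : Z ⟶ Y} {c : Y ⟶ Z⟦(1 : ℤ)⟧} (h : Triangle.mk (s • 𝟙 Z) b c ∈ distTriang T) :
    Nil s Y := by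
  refine ⟨2, ?_⟩
  have h1 : b ≫ (s • 𝟙 Y) = 0 := by
    rw [Linear.comp_smul, Category.comp_id]
    have h2 := z₁₂ h
    rwa [Linear.smul_comp, Category.id_comp] at h2
  obtain ⟨θ, hθ⟩ : ∃ θ : Z⟦(1 : ℤ)⟧ ⟶ Y, s • 𝟙 Y = c ≫ θ := Triangle.yoneda_exact₃ _ h _ h1
  rw [pow_two, mul_smul, hθ, ← Linear.smul_comp]
  have h3 := z₃₁ h
  rw [Functor.map_smul, CategoryTheory.Functor.map_id, Linear.comp_smul, Category.comp_id] at h3
  rw [h3, zero_comp]

end Cone

/-- `f` induces bijections on morphisms from objects on which all `s ∈ l` are nilpotent. -/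
def NEq (l : List R) {K K' : T} (f : K ⟶ K') : Prop :=
  ∀ Z : T, (∀ s ∈ l, Nil s Z) → Function.Bijective (fun φ : Z ⟶ K => φ ≫ f)

/-- `f` induces bijections on morphisms to `l`-complete objects. -/
def CEq (l : List R) {K K' : T} (f : K ⟶ K') : Prop :=
  ∀ C : T, (∀ s ∈ l, IsCompl s C) → Function.Bijective (fun φ : K' ⟶ C => f ≫ φ)

lemma NEq.comp {l : List R} {K K' K'' : T} {f : K ⟶ K'} {g : K' ⟶ K''} (hf : NEq l f) (hg : NEq l g) :
    NEq l (f ≫ g) := by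
  intro Z hZ
  have e : (fun φ : Z ⟶ K => φ ≫ f ≫ g) = (fun φ : Z ⟶ K' => φ ≫ g) ∘ (fun φ : Z ⟶ K => φ ≫ f) := by
    funext φ
    simp
  rw [e]
  exact (hg Z hZ).comp (hf Z hZ)

lemma NEq.of_comp_right {l : List R} {K K' K'' : T} {f : K ⟶ K'} {g : K' ⟶ K''} (hg : NEq l g) (hfg : NEq l (f ≫ g)) :
    NEq l f := by
  intro Z hZ
  have e : (fun φ : Z ⟶ K => φ ≫ f ≫ g) = (fun φ : Z ⟶ K' => φ ≫ g) ∘ (fun φ : Z ⟶ K => φ ≫ f) := by
    funext φ
    simp
  have h := hfg Z hZ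
  rw [e] at h
  exact (Function.Bijective.of_comp_iff' (hg Z hZ) _).1 h

lemma NEq.of_comp_left {l : List R} {K K' K'' : T} {f : K ⟶ K'} {g : K' ⟶ K''} (hf : NEq l f) (hfg : NEq l (f ≫ g)) :
    NEq l g := by
  intro Z hZ
  have e : (fun φ : Z ⟶ K => φ ≫ f ≫ g) = (fun φ : Z ⟶ K' => φ ≫ g) ∘ (fun φ : Z ⟶ K => φ ≫ f) := by
    funext φ
    simp
  have h := hfg Z hZ
  rw [e] at h
  exact (Function.Bijective.of_comp_iff _ (hf Z hZ)).1 h

lemma neq_of_isIso {l : List R} {K K' : T} (f : K ⟶ K') [IsIso f] : NEq l f := by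
  intro Z _
  constructor
  · intro a b h
    exact (cancel_mono f).1 h
  · intro b
    exact ⟨b ≫ inv f, by simp⟩

theorem exists_iter₃ [∀ K : T, HasProduct fun _ : ℕ => K] (l : List R) (K : T) :
    ∃ (C : T) (q : K ⟶ C), (∀ s ∈ l, IsCompl s C) ∧ (∀ g : R, IsCompl g K → IsCompl g C) ∧ CEq l q ∧ NEq l q := by
  induction l generalizing K with
  | nil =>
    refine ⟨K, 𝟙 K, by simp, fun g h => h, fun Z _ => ?_, fun Z _ => ?_⟩
    · simp only [Category.id_comp]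
      exact Function.bijective_id
    · simp only [Category.comp_id]
      exact Function.bijective_id
  | cons s l ih =>
    obtain ⟨L, C₁, p, q₁, r, ht, hL, hC₁, hg⟩ := exists_step s K
    obtain ⟨C, q₂, h1, h2, h3, h4⟩ := ih C₁
    refine ⟨C, q₁ ≫ q₂, ?_, fun g h => h2 g (hg g h), fun Z hZ => ?_, ?_⟩
    · intro t ht'
      rcases List.mem_cons.1 ht' with rfl | ht'
      · exact h2 _ hC₁
      · exact h1 _ ht'
    · have e1 := h3 Z fun t ht' => hZ t (List.mem_cons_of_mem _ ht')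
      have e2 := bijective_comp ht hL (hZ s List.mem_cons_self)
      have e3 : (fun φ : C ⟶ Z => (q₁ ≫ q₂) ≫ φ) = (fun φ : C₁ ⟶ Z => q₁ ≫ φ) ∘ (fun φ : C ⟶ Z => q₂ ≫ φ) := by
        funext φ
        simp
      rw [e3]
      exact e2.comp e1
    · refine NEq.comp (fun Z hZ => ?_) (fun Z hZ => h4 Z fun t ht' => hZ t (List.mem_cons_of_mem _ ht'))
      have hs := hZ s List.mem_cons_self
      constructor
      · intro φ φ' hφ
        dsimp only at hφ
        rw [← sub_eq_zero, ← Preadditive.sub_comp] at hφ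
        rw [← sub_eq_zero]
        obtain ⟨ψ, hψ⟩ := ex₂ ht _ hφ
        rw [hψ, hs.eq_zero hL ψ, zero_comp]
      · intro φ
        obtain ⟨ψ, hψ⟩ := ex₃ ht φ (hs.eq_zero (hL.shift 1) _)
        exact ⟨ψ, hψ.symm⟩

section Zero

variable {C : T}

lemma eq_zero_step (P : R → Prop) (s : R) (hs : IsCompl s C)
    (h : ∀ Z : T, (∀ t, P t → Nil t Z) → Nil s Z → ∀ φ : Z ⟶ C, φ = 0) (Z : T) (hZ : ∀ t, P t → Nil t Z)
    (φ : Z ⟶ C) : φ = 0 := by
  obtain ⟨Y, b, c, hY⟩ := distinguished_cocone_triangle (s • 𝟙 Z)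
  have h1 : ∀ t, P t → Nil t Y := fun t ht => Nil.cone hY (hZ t ht) (hZ t ht)
  have h2 : Nil s Y := nil_cone hY
  apply (hs Z).eq_zero_of_surjective
  intro φ
  obtain ⟨ψ, hψ⟩ : ∃ ψ : Z ⟶ C, φ = (s • 𝟙 Z) ≫ ψ :=
    Triangle.yoneda_exact₂ _ (inv_rot_of_distTriang _ hY) φ
      (h (Y⟦(-1 : ℤ)⟧) (fun t ht => (h1 t ht).shift (-1)) (h2.shift (-1)) _)
  refine ⟨ψ, ?_⟩
  rw [hψ, Linear.smul_comp, Category.id_comp]
  rfl

lemma eq_zero_list (l : List R) (hl : ∀ s ∈ l, IsCompl s C) (P : R → Prop)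
    (h : ∀ Z : T, (∀ t, P t → Nil t Z) → (∀ s ∈ l, Nil s Z) → ∀ φ : Z ⟶ C, φ = 0) (Z : T) (hZ : ∀ t, P t → Nil t Z)
    (φ : Z ⟶ C) : φ = 0 := by
  induction l generalizing P Z with
  | nil => exact h Z hZ (by simp) φ
  | cons s l ih =>
    refine eq_zero_step P s (hl s List.mem_cons_self) (fun Y hY hs ψ => ?_) Z hZ φ
    refine ih (fun t ht => hl t (List.mem_cons_of_mem _ ht)) (fun t => P t ∨ t = s) (fun W hW hW' χ => ?_) Y ?_ ψ
    · refine h W (fun t ht => hW t (Or.inl ht)) ?_ χ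
      intro t ht
      rcases List.mem_cons.1 ht with rfl | ht
      · exact hW _ (Or.inr rfl)
      · exact hW' t ht
    · rintro t (ht | rfl)
      · exact hY t ht
      · exact hs

/-- an `l`-complete object without morphisms from `l`-nilpotent objects is zero. -/
theorem isZero_of_nil (l : List R) (hl : ∀ s ∈ l, IsCompl s C)
    (h : ∀ Z : T, (∀ s ∈ l, Nil s Z) → ∀ φ : Z ⟶ C, φ = 0) : IsZero C := by
  rw [IsZero.iff_id_eq_zero]
  exact eq_zero_list l hl (fun _ => False) (fun Z _ => h Z) C (fun t ht => ht.elim) _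

end Zero

variable [∀ K : T, HasProduct fun _ : ℕ => K]

theorem NEq.of_cEq {l : List R} {K K' : T} {f : K ⟶ K'} (hf : CEq l f) : NEq l f := by
  obtain ⟨C, q, hC, -, hq, hq'⟩ := exists_iter₃ l K
  obtain ⟨C', r, hC', -, hr, hr'⟩ := exists_iter₃ l K'
  obtain ⟨g, hg⟩ := (hf C hC).2 q
  obtain ⟨h, hh⟩ := (hr C hC).2 g
  obtain ⟨h', hh'⟩ := (hq C' hC').2 (f ≫ r)
  dsimp only at hg hh hh'
  have e1 : h' ≫ h = 𝟙 C := by
    apply (hq C hC).1
    dsimp only
    rw [← Category.assoc, hh', Category.assoc, hh, hg, Category.comp_id]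
  have e2 : h ≫ h' = 𝟙 C' := by
    apply (hr C' hC').1
    apply (hf C' hC').1
    dsimp only
    rw [← Category.assoc r, hh, ← Category.assoc, hg, hh', Category.comp_id]
  have : IsIso h' := ⟨h, e1, e2⟩
  refine NEq.of_comp_right hr' ?_
  rw [← hh']
  exact hq'.comp (neq_of_isIso h')

theorem CEq.of_nEq {l : List R} {K K' : T} {f : K ⟶ K'} (hf : NEq l f) : CEq l f := by
  obtain ⟨C, q, hC, -, hq, hq'⟩ := exists_iter₃ l K
  obtain ⟨C', r, hC', -, hr, hr'⟩ := exists_iter₃ l K'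
  obtain ⟨h', hh'⟩ := (hq C' hC').2 (f ≫ r)
  dsimp only at hh'
  have hn : NEq l h' := by
    refine NEq.of_comp_left hq' ?_
    rw [hh']
    exact hf.comp hr'
  obtain ⟨D, b, c, hD⟩ := distinguished_cocone_triangle h'
  have hD' : ∀ s ∈ l, IsCompl s D := fun s hs => IsCompl.of_triangle hD (hC s hs) (hC' s hs)
  have hz : IsZero D := by
    refine isZero_of_nil l hD' fun Z hZ φ => ?_
    have h1 : φ ≫ c = 0 := by
      have h2 : (φ ≫ c) ≫ h'⟦(1 : ℤ)⟧' = 0 := by rw [Category.assoc, z₃₁ hD, comp_zero]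
      let e : Z ≅ Z⟦(-1 : ℤ)⟧⟦(1 : ℤ)⟧ := shI Z 1
      rw [← cancel_epi e.inv, comp_zero]
      obtain ⟨x, hx⟩ := (shiftFunctor T (1 : ℤ)).map_surjective (X := Z⟦(-1 : ℤ)⟧) (Y := C) (e.inv ≫ φ ≫ c)
      have h4 : x ≫ h' = 0 := by
        apply (shiftFunctor T (1 : ℤ)).map_injective
        rw [Functor.map_comp, hx, Category.assoc, h2, comp_zero, Functor.map_zero]
      have h5 : x = 0 := (hn _ fun s hs => (hZ s hs).shift (-1)).1 (by
        dsimp only
        rw [h4, zero_comp])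
      rw [← hx, h5, Functor.map_zero]
    obtain ⟨ψ, hψ⟩ := ex₃ hD φ h1
    obtain ⟨χ, hχ⟩ := (hn Z hZ).2 ψ
    dsimp only at hχ
    rw [hψ, ← hχ, Category.assoc, z₁₂ hD, comp_zero]
  have : IsIso h' := (Triangle.isZero₃_iff_isIso₁ _ hD).1 hz
  intro E hE
  have e1 : (fun φ : C' ⟶ E => f ≫ r ≫ φ) = (fun φ : K' ⟶ E => f ≫ φ) ∘ (fun φ : C' ⟶ E => r ≫ φ) := rfl
  have e2 : (fun φ : C' ⟶ E => f ≫ r ≫ φ) = (fun φ : C ⟶ E => q ≫ φ) ∘ (fun φ : C' ⟶ E => h' ≫ φ) := by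
    funext φ
    dsimp only [Function.comp_apply]
    rw [← Category.assoc, ← Category.assoc, hh']
  have h3 : Function.Bijective (fun φ : C' ⟶ E => h' ≫ φ) := by
    constructor
    · intro a b h
      exact (cancel_epi h').1 h
    · intro b
      exact ⟨inv h' ≫ b, by simp⟩
  have h4 : Function.Bijective (fun φ : C' ⟶ E => f ≫ r ≫ φ) := by
    rw [e2]
    exact (hq E hE).comp h3
  rw [e1] at h4
  exact (Function.Bijective.of_comp_iff _ (hr E hE)).1 h4

end K302.NilEq
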