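import Groth.Agent.DerComp.K302.RHomCompl
import Groth.Agent.DerComp.K302.NilEq
import Groth.Agent.Dcoh.CxProj
import Groth.Agent.KSix.K242.SiteBif

/-!
# The projection formula for `j_!` on complexes of modules on a ringed site

For every `Z ∈ D(O_U)` there is `Z'` with `j_! Z ⊗^L P ≅ j_! Z'`, and if a section is nilpotent on `Z` then it is on `Z'`.
-/

set_option autoImplicit false

universe v u w v' u'

open CategoryTheory CategoryTheory.Limits Opposite MonoidalCategory

attribute [local instance] HasDerivedCategory.standard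

namespace K302.ProjCx

open K780.Tele K780.Res K302.LT K302.Loc K302.SmulTens K302.NilEq K242.SiteBif

variable {C : Type u} [SmallCategory C] {J : GrothendieckTopology C} (O : Sheaf J CommRingCat.{u})

attribute [local instance] K780.Away.preservesFiniteLimits_extZero K780.Away.preservesFiniteColimits_extZero

section Proj

open scoped K291.Mon

variable (U : C)

/-- the projection formula `j_! (A ⊗ N|_U) = j_! A ⊗ N`. -/
noncomputable def projNat :
    (ModSite.tensorBi (O.over U) ⋙ (Functor.whiskeringLeft _ _ _).obj (ModSite.restr O U)) ⋙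
      (Functor.whiskeringRight _ _ _).obj (ModSite.extZero O U) ≅
    ModSite.extZero O U ⋙ ModSite.tensorBi O :=
  NatIso.ofComponents (fun A => NatIso.ofComponents (fun N => (K291.Shriek.proj O U N).app A)
    (fun {N N'} g => K291.Shriek.proj_natural_right g A))
    (fun {A A'} f => by
      ext1; ext1 N
      exact (K291.Shriek.proj O U N).hom.naturality f)

end Proj

/-- restriction of complexes -/
noncomputable abbrev resCx (U : C) := (ModSite.restr O U).mapHomologicalComplex (ComplexShape.up ℤ)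

/-- extension by zero of complexes -/
noncomputable abbrev extCx (U : C) := (ModSite.extZero O U).mapHomologicalComplex (ComplexShape.up ℤ)

/-- extension by zero on derived categories -/
noncomputable abbrev extD (U : C) := (ModSite.extZero O U).mapDerivedCategory

/-- the projection formula on complexes -/
theorem projCx (U : C) (F : CochainComplex (ModSite.Mod (O.over U)) ℤ) (P : CochainComplex (ModSite.Mod O) ℤ) :
    Nonempty ((extCx O U).obj (((ModSite.tensorCx (O.over U)).obj F).obj ((resCx O U).obj P)) ≅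
      ((ModSite.tensorCx O).obj ((extCx O U).obj F)).obj P) := by
  have : (ModSite.extZero O U).IsLeftAdjoint := (ModSite.extZeroAdj O U).isLeftAdjoint
  have : ∀ J : Type, PreservesColimitsOfShape (Discrete J) (ModSite.extZero O U) := fun J => inferInstance
  exact ⟨((Groth.Agent.Dcoh.CxProj.projIso (projNat O U)).app F).app P⟩

lemma acyclic_map {A B : Type*} [Category* A] [Category* B] [Abelian A] [Abelian B] (F : A ⥤ B) [F.Additive]
    [PreservesFiniteLimits F] [PreservesFiniteColimits F] {K : CochainComplex A ℤ} (hK : K.Acyclic) :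
    ((F.mapHomologicalComplex (ComplexShape.up ℤ)).obj K).Acyclic := fun n => by
  have h1 : (K.sc n).Exact := hK n
  exact h1.map F

theorem isKFlat_extCx (U : C) (F : CochainComplex (ModSite.Mod (O.over U)) ℤ) (hF : ModSite.IsKFlat F) :
    ModSite.IsKFlat ((extCx O U).obj F) := by
  rw [K294.KFl.isKFlat_iff]
  intro L hL
  obtain ⟨e⟩ := projCx O U F L
  have h1 : ((resCx O U).obj L).Acyclic := acyclic_map (ModSite.restr O U) hL
  have h2 := (K294.KFl.isKFlat_iff F).1 hF _ h1
  have h3 := Groth.Agent.Dcoh.KFlatSingle.acyclic_of_iso (K294.KFlat2.tensorCxIso ((resCx O U).obj L) F) h2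
  have h4 := acyclic_map (ModSite.extZero O U) h3
  exact Groth.Agent.Dcoh.KFlatSingle.acyclic_of_iso (e ≪≫ K294.KFlat2.tensorCxIso _ _) h4

/-- `s` acts on a tensor product of complexes through the first factor. -/
theorem tensorCx_smul (s : DerComp.GSec O) (F E : CochainComplex (ModSite.Mod O) ℤ) :
    ((ModSite.tensorCx O).map (s • 𝟙 F)).app E = s • 𝟙 (((ModSite.tensorCx O).obj F).obj E) := by
  ext n : 1
  refine HomologicalComplex.mapBifunctor.hom_ext (fun p q h => ?_)
  refine (HomologicalComplex.ι_mapBifunctorMap (s • 𝟙 F) (𝟙 E) (ModSite.tensorBi O) (ComplexShape.up ℤ) p q n h).trans ?_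
  have h1 : (s • 𝟙 F).f p = DerComp.smulEnd s (F.X p) := Category.comp_id _
  have h2 : (s • 𝟙 (((ModSite.tensorCx O).obj F).obj E)).f n =
    DerComp.smulEnd s ((((ModSite.tensorCx O).obj F).obj E).X n) := Category.comp_id _
  rw [h1, h2]
  have h3 : ((ModSite.tensorBi O).obj (F.X p)).map ((𝟙 E : E ⟶ E).f q) = 𝟙 _ :=
    CategoryTheory.Functor.map_id ((ModSite.tensorBi O).obj (F.X p)) (E.X q)
  refine (congrArg₂ (fun a b => a ≫ b ≫ _) (smul_tensor s (F.X p) (E.X q)) h3).trans ?_
  refine (congrArg (fun t => _ ≫ t) (Category.id_comp _)).trans ?_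
  exact DerComp.smulEnd_comm s _

section Transport

variable {R : Type w} [CommRing R] {D : Type u} [Category.{v} D] [Preadditive D] [Linear R D]
  {D' : Type u'} [Category.{v'} D'] [Preadditive D'] [Linear R D']

lemma map_smul_of_iso (Φ : D ⥤ D') (s : R) {A Z : D} (e : A ≅ Z) (h : Φ.map (s • 𝟙 A) = s • 𝟙 (Φ.obj A)) :
    Φ.map (s • 𝟙 Z) = s • 𝟙 (Φ.obj Z) := by
  have h1 : s • 𝟙 Z = e.inv ≫ (s • 𝟙 A) ≫ e.hom := by simp
  rw [h1, Functor.map_comp, Functor.map_comp, h, Linear.smul_comp, Linear.comp_smul, Category.id_comp, ← Functor.map_comp,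
    e.inv_hom_id, CategoryTheory.Functor.map_id]

lemma map_smul_of_natIso {Φ Φ' : D ⥤ D'} (α : Φ ≅ Φ') (s : R) (Z : D) (h : Φ.map (s • 𝟙 Z) = s • 𝟙 (Φ.obj Z)) :
    Φ'.map (s • 𝟙 Z) = s • 𝟙 (Φ'.obj Z) := by
  have h1 := α.hom.naturality (s • 𝟙 Z)
  rw [← cancel_epi (α.hom.app Z), ← h1, h, Linear.smul_comp, Linear.comp_smul, Category.comp_id, Category.id_comp]

end Transport

theorem Q_smul (s : DerComp.GSec O) (G : CochainComplex (ModSite.Mod O) ℤ) :
    DerivedCategory.Q.map (s • 𝟙 G) = s • 𝟙 (DerivedCategory.Q.obj G) := by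
  rw [Functor.map_smul, CategoryTheory.Functor.map_id]

theorem lts_smul₀ (s : DerComp.GSec O) (F E : CochainComplex (ModSite.Mod O) ℤ) (hF : ModSite.IsKFlat F) :
    ((LTS O).flip.obj (DerivedCategory.Q.obj E)).map (s • 𝟙 (DerivedCategory.Q.obj F)) =
      s • 𝟙 (((LTS O).obj (DerivedCategory.Q.obj F)).obj (DerivedCategory.Q.obj E)) := by
  have h1 : IsIso (κS F E) := isIso_κS F E hF
  have h2 := κS_nat₁ (s • 𝟙 F) E
  have h3 : (s • 𝟙 (((LTS O).obj (DerivedCategory.Q.obj F)).obj (DerivedCategory.Q.obj E))) ≫ κS F E = s • κS F E := by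
    rw [Linear.smul_comp, Category.id_comp]
  refine (cancel_mono (κS F E)).1 (Eq.trans ?_ h3.symm)
  refine (congrArg (fun t => ((LTS O).map t).app (DerivedCategory.Q.obj E) ≫ κS F E) (Q_smul O s F).symm).trans ?_
  refine h2.trans ?_
  refine (congrArg (fun t => κS F E ≫ DerivedCategory.Q.map t) (tensorCx_smul O s F E)).trans ?_
  refine (congrArg (fun t => κS F E ≫ t) (Q_smul O s _)).trans ?_
  rw [Linear.comp_smul, Category.comp_id]

/-- `s` acts on a derived tensor product through the first factor. -/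
theorem lts_smul (s : DerComp.GSec O) (Z W : DerivedCategory (ModSite.Mod O)) :
    ((LTS O).flip.obj W).map (s • 𝟙 Z) = s • 𝟙 (((LTS O).flip.obj W).obj Z) := by
  obtain ⟨Z₀, ⟨eZ⟩⟩ : ∃ Z₀ : CochainComplex (ModSite.Mod O) ℤ, Nonempty (DerivedCategory.Q.obj Z₀ ≅ Z) :=
    ⟨_, ⟨DerivedCategory.Q.objObjPreimageIso Z⟩⟩
  obtain ⟨E, ⟨eW⟩⟩ : ∃ E : CochainComplex (ModSite.Mod O) ℤ, Nonempty (DerivedCategory.Q.obj E ≅ W) :=
    ⟨_, ⟨DerivedCategory.Q.objObjPreimageIso W⟩⟩
  obtain ⟨F, q, hF, -, hq, -⟩ := K294.KFlat2.exists_resolution Z₀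
  have hq' : IsIso (DerivedCategory.Q.map q) := (DerivedCategory.isIso_Q_map_iff_quasiIso _ _).2 hq
  exact map_smul_of_natIso ((LTS O).flip.mapIso eW) s Z (map_smul_of_iso _ s (asIso (DerivedCategory.Q.map q) ≪≫ eZ)
    (lts_smul₀ O s F E hF))

/-- **Projection formula with nilpotence.** -/
theorem exists_nil (U : C) (P : CochainComplex (ModSite.Mod O) ℤ) [ModSite.HasLTensorCx P]
    (Z : DerivedCategory (ModSite.Mod (O.over U))) :
    ∃ Z' : DerivedCategory (ModSite.Mod (O.over U)), (∀ s : DerComp.GSec (O.over U), Nil s Z → Nil s Z') ∧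
      Nonempty ((ModSite.LTensorCx P).obj ((extD O U).obj Z) ≅ (extD O U).obj Z') := by
  obtain ⟨Z₀, ⟨eZ⟩⟩ : ∃ Z₀ : CochainComplex (ModSite.Mod (O.over U)) ℤ, Nonempty (DerivedCategory.Q.obj Z₀ ≅ Z) :=
    ⟨_, ⟨DerivedCategory.Q.objObjPreimageIso Z⟩⟩
  obtain ⟨F, q, hF, -, hq, -⟩ := K294.KFlat2.exists_resolution Z₀
  have hq' : IsIso (DerivedCategory.Q.map q) := (DerivedCategory.isIso_Q_map_iff_quasiIso _ _).2 hq
  let e : DerivedCategory.Q.obj F ≅ Z := asIso (DerivedCategory.Q.map q) ≪≫ eZ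
  refine ⟨((LTS (O.over U)).flip.obj (DerivedCategory.Q.obj ((resCx O U).obj P))).obj Z, ?_, ?_⟩
  · rintro s ⟨n, hn⟩
    refine ⟨n, ?_⟩
    obtain ⟨_, _⟩ := isTriang_LTS_flip_obj (DerivedCategory.Q.obj ((resCx O U).obj P))
    rw [← lts_smul, hn]
    exact Functor.map_zero _ _ _
  · obtain ⟨e2⟩ := projCx O U F P
    have h1 : IsIso (κS F ((resCx O U).obj P)) := isIso_κS F _ hF
    let e1 := asIso (κS F ((resCx O U).obj P))
    exact ⟨(ModSite.LTensorCx P).mapIso ((extD O U).mapIso e.symm ≪≫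
      (ModSite.extZero O U).mapDerivedCategoryFactors.app F) ≪≫ isoQ P _ (isKFlat_extCx O U F hF) ≪≫
      DerivedCategory.Q.mapIso e2.symm ≪≫ ((ModSite.extZero O U).mapDerivedCategoryFactors.app _).symm ≪≫
      (extD O U).mapIso (e1.symm ≪≫ ((LTS (O.over U)).flip.obj _).mapIso e)⟩

end K302.ProjCx
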