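import Groth.Agent.DerComp.K302.AwayTens

/-!
# `RHom(O_s, K)` is the telescope `T(K, s)`
-/

set_option autoImplicit false
set_option linter.unusedSectionVars false

universe v u w v' u'

open CategoryTheory CategoryTheory.Limits Opposite Pretriangulated

namespace K302.RHomAway

section Abstract

open K780.Tele

variable {R : Type w} [CommRing R] {T : Type u} [Category.{v} T] [Preadditive T] [HasZeroObject T] [HasShift T ℤ]
  [∀ n : ℤ, (shiftFunctor T n).Additive] [Pretriangulated T] [Linear R T]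
  [∀ n : ℤ, Functor.Linear R (shiftFunctor T n)]

variable {s : R} {Φ Rr : T ⥤ T} (adj : Φ ⊣ Rr) (η : 𝟭 T ⟶ Φ)

include adj in
/-- `s` is invertible on the values of the right adjoint if it is on those of the left adjoint. -/
theorem invt_right (h1 : ∀ X : T, IsIso (Φ.map (s • 𝟙 X))) (K : T) : Invt s (Rr.obj K) := by
  apply Invt.of_bijective
  intro X
  have h2 : (fun φ : X ⟶ Rr.obj K => s • φ) =
      (adj.homEquiv X K) ∘ (fun ψ : Φ.obj X ⟶ K => Φ.map (s • 𝟙 X) ≫ ψ) ∘ (adj.homEquiv X K).symm := by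
    funext φ
    simp only [Function.comp_apply, Adjunction.homEquiv_naturality_left, Equiv.apply_symm_apply, Linear.smul_comp,
      Category.id_comp]
  rw [h2]
  refine (adj.homEquiv X K).bijective.comp (Function.Bijective.comp ?_ (adj.homEquiv X K).symm.bijective)
  have := h1 X
  constructor
  · intro a b h
    exact (cancel_epi (Φ.map (s • 𝟙 X))).1 h
  · intro b
    exact ⟨inv (Φ.map (s • 𝟙 X)) ≫ b, by simp⟩

/-- the map `R K ⟶ K` -/
def p (K : T) : Rr.obj K ⟶ K := η.app (Rr.obj K) ≫ adj.counit.app K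

theorem bijective_comp_p (h2 : ∀ Y : T, Invt s Y → IsIso (η.app Y)) (K Y : T) (hY : Invt s Y) :
    Function.Bijective (fun φ : Y ⟶ Rr.obj K => φ ≫ p adj η K) := by
  have h3 : (fun φ : Y ⟶ Rr.obj K => φ ≫ p adj η K) =
      (fun ψ : Φ.obj Y ⟶ K => η.app Y ≫ ψ) ∘ (adj.homEquiv Y K).symm := by
    funext φ
    simp only [Function.comp_apply, p, Adjunction.homEquiv_counit]
    rw [← Category.assoc, ← Category.assoc]
    congr 1
    exact η.naturality φ
  rw [h3]
  refine Function.Bijective.comp ?_ (adj.homEquiv Y K).symm.bijective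
  have := h2 Y hY
  constructor
  · intro a b h
    exact (cancel_epi (η.app Y)).1 h
  · intro b
    exact ⟨inv (η.app Y) ≫ b, by simp⟩

include adj η in
theorem exists_triangle (h1 : ∀ X : T, IsIso (Φ.map (s • 𝟙 X))) (h2 : ∀ Y : T, Invt s Y → IsIso (η.app Y)) (K : T)
    [HasProduct fun _ : ℕ => K] : ∃ (a : Rr.obj K ⟶ ∏ᶜ fun _ : ℕ => K) (c : (∏ᶜ fun _ : ℕ => K) ⟶ (Rr.obj K)⟦(1 : ℤ)⟧),
      Triangle.mk a (dm s K) c ∈ distTriang T := by
  obtain ⟨D, i, b, hD⟩ := distinguished_cocone_triangle (dm s K)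
  obtain ⟨L, a, c, ht⟩ : ∃ (L : T) (a : L ⟶ ∏ᶜ fun _ : ℕ => K) (c : (∏ᶜ fun _ : ℕ => K) ⟶ L⟦(1 : ℤ)⟧),
      Triangle.mk a (dm s K) c ∈ distTriang T := ⟨_, _, _, inv_rot_of_distTriang _ hD⟩
  have hL : Invt s L := invt_tele ht
  have hR : Invt s (Rr.obj K) := invt_right adj h1 K
  -- mutually inverse morphisms
  obtain ⟨f, hf⟩ := tele_surjective ht hR (p adj η K)
  obtain ⟨g, hg⟩ := (bijective_comp_p adj η h2 K L hL).2 (a ≫ Pi.π _ 0)
  dsimp only at hg
  have e1 : f ≫ g = 𝟙 _ := by
    apply (bijective_comp_p adj η h2 K _ hR).1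
    dsimp only
    rw [Category.assoc, hg, hf, Category.id_comp]
  have e2 : g ≫ f = 𝟙 _ := by
    rw [← sub_eq_zero]
    apply tele_injective ht hL
    rw [Preadditive.sub_comp, Category.assoc, hf, hg, Category.id_comp, sub_self]
  let e : L ≅ Rr.obj K := ⟨g, f, e2, e1⟩
  refine ⟨e.inv ≫ a, c ≫ e.hom⟦(1 : ℤ)⟧', isomorphic_distinguished _ ht _ ?_⟩
  refine Triangle.isoMk _ _ e.symm (Iso.refl _) (Iso.refl _) ?_ ?_ ?_
  · exact Category.comp_id _
  · exact (Category.comp_id _).trans (Category.id_comp _).symm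
  · refine Eq.trans ?_ (Category.id_comp c).symm
    change (c ≫ e.hom⟦(1 : ℤ)⟧') ≫ e.inv⟦(1 : ℤ)⟧' = c
    rw [Category.assoc, ← Functor.map_comp, e.hom_inv_id, CategoryTheory.Functor.map_id, Category.comp_id]

end Abstract

section Main

attribute [local instance] HasDerivedCategory.standard

variable {C : Type u} [SmallCategory C] {J : GrothendieckTopology C} {O : Sheaf J CommRingCat.{u}}
  (s : DerComp.GSec O)

/-- `O_s[0]` -/
noncomputable abbrev E : CochainComplex (ModSite.Mod O) ℤ :=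
  (CochainComplex.singleFunctor (ModSite.Mod O) 0).obj (DerComp.locAway s (ModSite.unit O))

theorem isKFlat_E : ModSite.IsKFlat (E s) :=
  K294.KFlat2.isKFlat_single _ (AwayTens.isFlat_Os s) 0

theorem inverts : (HomologicalComplex.quasiIso (ModSite.Mod O) (ComplexShape.up ℤ)).IsInvertedBy
    (ModSite.tensorCxQ (E s)) := by
  intro F G f hf
  have : QuasiIso f := hf
  have h := K294.KFl.quasiIso_tensor (isKFlat_E s) f
  change IsIso (DerivedCategory.Q.map (((ModSite.tensorCx O).map f).app (E s)))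
  infer_instance

variable [ModSite.HasLTensorCx (E s)]

theorem isIso_counit : IsIso ((ModSite.tensorCxQ (E s)).totalLeftDerivedCounit DerivedCategory.Q
    (HomologicalComplex.quasiIso (ModSite.Mod O) (ComplexShape.up ℤ))) :=
  Functor.isIso_of_isLeftDerivedFunctor_of_inverts (ModSite.LTensorCx (E s)) _ (inverts s)

/-- the derived functor is induced by the exact functor -/
noncomputable def isoΦ : ModSite.LTensorCx (E s) ≅ AwayTens.Φ s := by
  letI : Localization.Lifting DerivedCategory.Q (HomologicalComplex.quasiIso (ModSite.Mod O) (ComplexShape.up ℤ))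
      (ModSite.tensorCxQ (E s)) (ModSite.LTensorCx (E s)) :=
    ⟨haveI := isIso_counit s
     asIso ((ModSite.tensorCxQ (E s)).totalLeftDerivedCounit DerivedCategory.Q
      (HomologicalComplex.quasiIso (ModSite.Mod O) (ComplexShape.up ℤ)))⟩
  exact Localization.liftNatIso DerivedCategory.Q (HomologicalComplex.quasiIso (ModSite.Mod O) (ComplexShape.up ℤ))
    (ModSite.tensorCxQ (E s)) ((AwayTens.G s).mapHomologicalComplex (ComplexShape.up ℤ) ⋙ DerivedCategory.Q) _ _
    (Functor.isoWhiskerRight (Groth.Agent.Dcoh.TensSingle.singleRightIso (ModSite.tensorBi O)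
      (DerComp.locAway s (ModSite.unit O))).symm DerivedCategory.Q)

variable [DerComp.HasRHom (E s)]

/-- the adjunction -/
noncomputable def adj : AwayTens.Φ s ⊣ DerComp.RHom (E s) :=
  (DerComp.RHomAdj (E s)).ofNatIsoLeft (isoΦ s)

theorem isT (K : DerivedCategory (ModSite.Mod O)) [HasProduct fun _ : ℕ => K] :
    DerComp.IsT s K ((DerComp.RHom (E s)).obj K) :=
  exists_triangle (adj s) (AwayTens.etaD s) (AwayTens.isIso_map_smul s) (AwayTens.isIso_etaD_app s) K

theorem isZero_iff (K : DerivedCategory (ModSite.Mod O)) [HasProduct fun _ : ℕ => K] :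
    IsZero ((DerComp.RHom (E s)).obj K) ↔ ∀ L : DerivedCategory (ModSite.Mod O), DerComp.IsT s K L → IsZero L := by
  refine ⟨fun h L hL => ?_, fun h => h _ (isT s K)⟩
  obtain ⟨a, c, ht⟩ := isT s K
  obtain ⟨a', c', ht'⟩ := hL
  exact (Triangle.isZero₁_iff_isIso₂ _ ht').2 ((Triangle.isZero₁_iff_isIso₂ _ ht).1 h)

end Main

end K302.RHomAway
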