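import Groth.Agent.DerComp.K302.ProjCx
import Groth.Agent.DerComp.K780.GenBy
import Groth.Agent.DerComp.K780.OpenPush

/-!
# `RHom(P, -)` commutes with derived completion
-/

set_option autoImplicit false

universe v u w v' u'

open CategoryTheory CategoryTheory.Limits Opposite

attribute [local instance] HasDerivedCategory.standard

namespace K302.RHomCE

open K780.Tele K780.Res K302.NilEq K302.ProjCx

section Abstract

variable {D : Type u} [Category.{v} D] {D' : Type u'} [Category.{v'} D'] {L : D ⥤ D'} {R : D' ⥤ D} (adj : L ⊣ R)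

include adj in
lemma bij_adj (Z : D) {G G' : D'} (f : G ⟶ G') :
    Function.Bijective (fun φ : Z ⟶ R.obj G => φ ≫ R.map f) ↔
      Function.Bijective (fun ψ : L.obj Z ⟶ G => ψ ≫ f) := by
  have e : (fun φ : Z ⟶ R.obj G => φ ≫ R.map f) ∘ (adj.homEquiv Z G) =
      (adj.homEquiv Z G') ∘ (fun ψ : L.obj Z ⟶ G => ψ ≫ f) := by
    funext ψ
    exact (adj.homEquiv_naturality_right ψ f).symm
  rw [← Function.Bijective.of_comp_iff _ (adj.homEquiv Z G).bijective, e,
    Function.Bijective.of_comp_iff' (adj.homEquiv Z G').bijective]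

include adj in
lemma bij_adj' {K K' : D} (q : K ⟶ K') (Y : D') :
    Function.Bijective (fun φ : L.obj K' ⟶ Y => L.map q ≫ φ) ↔
      Function.Bijective (fun ψ : K' ⟶ R.obj Y => q ≫ ψ) := by
  have e : (adj.homEquiv K Y) ∘ (fun φ : L.obj K' ⟶ Y => L.map q ≫ φ) =
      (fun ψ : K' ⟶ R.obj Y => q ≫ ψ) ∘ (adj.homEquiv K' Y) := by
    funext φ
    exact adj.homEquiv_naturality_left q φ
  rw [← Function.Bijective.of_comp_iff' (adj.homEquiv K Y).bijective, e,
    Function.Bijective.of_comp_iff _ (adj.homEquiv K' Y).bijective]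

lemma bij_iso {Z Z' : D} (e : Z ≅ Z') {G G' : D} (f : G ⟶ G') (h : Function.Bijective (fun φ : Z' ⟶ G => φ ≫ f)) :
    Function.Bijective (fun φ : Z ⟶ G => φ ≫ f) := by
  have e1 : (fun φ : Z ⟶ G => φ ≫ f) = (fun φ : Z' ⟶ G' => e.hom ≫ φ) ∘ (fun φ : Z' ⟶ G => φ ≫ f) ∘
      (fun φ : Z ⟶ G => e.inv ≫ φ) := by
    funext φ
    simp
  rw [e1]
  refine Function.Bijective.comp ⟨fun a b h => (cancel_epi e.hom).1 h, fun b => ⟨e.inv ≫ b, by simp⟩⟩
    (h.comp ⟨fun a b h => (cancel_epi e.inv).1 h, fun b => ⟨e.hom ≫ b, by simp⟩⟩)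

end Abstract

variable {C : Type u} [SmallCategory C] {J : GrothendieckTopology C} (O : Sheaf J CommRingCat.{u})

attribute [local instance] K780.Away.preservesFiniteLimits_extZero K780.Away.preservesFiniteColimits_extZero

/-- `RHom(P, -)` preserves the morphisms inducing bijections on morphisms from nilpotent objects. -/
theorem nEq_rhom (U : C) (P : CochainComplex (ModSite.Mod O) ℤ) [ModSite.HasLTensorCx P] [DerComp.HasRHom P]
    (l : List (DerComp.GSec (O.over U))) {G G' : DerivedCategory (ModSite.Mod O)} (f : G ⟶ G')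
    (hf : NEq l ((resD O U).map f)) : NEq l ((resD O U).map ((DerComp.RHom P).map f)) := by
  intro Z hZ
  obtain ⟨Z', hZ', ⟨e⟩⟩ := exists_nil O U P Z
  have adj := Groth.Agent.CohtopB.ExactDerAdj.derivedAdj (ModSite.extZeroAdj O U)
  have h1 := hf Z' fun s hs => hZ' s (hZ s hs)
  rw [bij_adj adj] at h1 ⊢
  rw [bij_adj (DerComp.RHomAdj P)]
  exact bij_iso e f h1

/-- `K → K'` is a `D_comp`-equivalence. -/
def DEq (I : DerComp.IdealSh O) {K K' : DerivedCategory (ModSite.Mod O)} (q : K ⟶ K') : Prop :=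
  ∀ Y, DerComp.IsDerComp O I Y → Function.Bijective (fun φ : K' ⟶ Y => q ≫ φ)

theorem cEq_of_dEq [HasFiniteLimits C] (I : DerComp.IdealSh O) {K K' : DerivedCategory (ModSite.Mod O)} (q : K ⟶ K')
    (hq : DEq O I q) (U : C) {r : ℕ} (a : Fin r → O.obj.obj (op U))
    (ha : (I.over U).IsGenBy fun i => DerComp.GSec.ofSect O U (a i)) :
    CEq (List.ofFn fun i => DerComp.GSec.ofSect O U (a i)) ((resD O U).map q) := by
  intro Y hY
  have h1 : DerComp.IsDerComp (O.over U) (I.over U) Y :=
    (K780.GenBy.isDerComp_iff_of_isGenBy ha Y).2 fun i => hY _ (List.mem_ofFn.2 ⟨i, rfl⟩)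
  rw [bij_adj' (K780.OpenPush.adjD O U)]
  exact hq _ (Groth.Agent.S13482.result (K780.OpenPush.jmor O U) I (I.over U) (K780.OpenPush.mapsIdealInto O U I) Y h1)

/-- An object of `D(O)` that vanishes on the members of a covering class is zero. -/
theorem isZero_of_locally (B : C → Prop) (hB : K779.Gen.Covering J B) (K : DerivedCategory (ModSite.Mod O))
    (h : ∀ V, B V → IsZero ((resD O V).obj K)) : IsZero K := by
  refine K779.Gen.isZero_of_subsingleton O B hB K fun V hV n => ?_
  have h1 : Subsingleton (SiteCmp.inD (O.over V) (ModSite.freeOn (O.over V) (Over.mk (𝟙 V))) ⟶ ((resD O V).obj K)⟦n⟧) := by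
    have h2 : IsZero (((resD O V).obj K)⟦n⟧) := Functor.map_isZero _ (h V hV)
    exact ⟨fun x y => h2.eq_of_tgt _ _⟩
  have h3 := (homRes O V (ModSite.freeOn (O.over V) (Over.mk (𝟙 V))) K n).toEquiv.subsingleton
  exact K779.Bous.subsingleton_of_iso
    ((DerivedCategory.singleFunctor (ModSite.Mod O) 0).mapIso (freeIso (O := O) (Over.mk (𝟙 V)))) (Iso.refl _) h3

theorem isIso_of_locally (B : C → Prop) (hB : K779.Gen.Covering J B) {K K' : DerivedCategory (ModSite.Mod O)}
    (g : K ⟶ K') (h : ∀ V, B V → IsIso ((resD O V).map g)) : IsIso g := by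
  obtain ⟨D, b, c, hD⟩ := Pretriangulated.distinguished_cocone_triangle g
  refine (Pretriangulated.Triangle.isZero₃_iff_isIso₁ _ hD).1 (isZero_of_locally O B hB _ fun V hV => ?_)
  have h1 := (resD O V).map_distinguished _ hD
  exact (Pretriangulated.Triangle.isZero₃_iff_isIso₁ _ h1).2 (h V hV)

theorem isDerComp_res (I : DerComp.IdealSh O) {K : DerivedCategory (ModSite.Mod O)} (hK : DerComp.IsDerComp O I K)
    (U : C) : DerComp.IsDerComp (O.over U) (I.over U) ((resD O U).obj K) := by
  intro V f hf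
  exact (van_res O K V f).2 (hK V.left f hf)

theorem isIso_of_cEq {D : Type u} [Category.{v} D] (P : D → Prop) {K K' : D} (g : K ⟶ K') (hK : P K) (hK' : P K')
    (h : ∀ Y, P Y → Function.Bijective (fun φ : K' ⟶ Y => g ≫ φ)) : IsIso g := by
  obtain ⟨g', hg'⟩ := (h K hK).2 (𝟙 K)
  dsimp only at hg'
  refine ⟨g', hg', (h K' hK').1 ?_⟩
  dsimp only
  rw [← Category.assoc, hg', Category.id_comp, Category.comp_id]

/-- the unit of the completion is a `D_comp`-equivalence. -/
theorem dEq_unit (I : DerComp.IdealSh O) [DerComp.HasDerCompletion O I] (K : DerivedCategory (ModSite.Mod O)) :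
    DEq O I (DerComp.toDerCompletion I K) := by
  intro Z hZ
  let L := ((DerComp.derCompletion O I).obj K).obj
  let adj := DerComp.derCompletionAdj O I
  let e : (L ⟶ Z) ≃ ((DerComp.derCompletion O I).obj K ⟶ (⟨Z, hZ⟩ : DerComp.DComp O I)) :=
    ((ObjectProperty.fullyFaithfulι (DerComp.IsDerComp O I)).homEquiv
      (X := (DerComp.derCompletion O I).obj K) (Y := (⟨Z, hZ⟩ : DerComp.DComp O I))).symm
  have h1 := (e.trans (adj.homEquiv K ⟨Z, hZ⟩)).bijective
  have h2 : (fun φ : L ⟶ Z => DerComp.toDerCompletion I K ≫ φ) = (e.trans (adj.homEquiv K ⟨Z, hZ⟩)) := by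
    funext φ
    change _ = adj.homEquiv K ⟨Z, hZ⟩ (e φ)
    rw [Adjunction.homEquiv_unit]
    rfl
  change Function.Bijective (fun φ : L ⟶ Z => DerComp.toDerCompletion I K ≫ φ)
  rw [h2]
  exact h1

/-- **`RHom(P, -)` commutes with completion.** -/
theorem main [HasFiniteLimits C] (I : DerComp.IdealSh O) (hI : I.IsFiniteType) [DerComp.HasDerCompletion O I]
    (P : CochainComplex (ModSite.Mod O) ℤ) [ModSite.HasLTensorCx P] [DerComp.HasRHom P]
    (G : DerivedCategory (ModSite.Mod O))
    (h : DerComp.IsDerComp O I ((DerComp.RHom P).obj ((DerComp.derCompletion O I).obj G).obj)) :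
    IsIso (((DerComp.derCompletionAdj O I).homEquiv ((DerComp.RHom P).obj G)
      ⟨(DerComp.RHom P).obj ((DerComp.derCompletion O I).obj G).obj, h⟩).symm
      ((DerComp.RHom P).map (DerComp.toDerCompletion I G))) := by
  set g' := ((DerComp.derCompletionAdj O I).homEquiv ((DerComp.RHom P).obj G)
      ⟨(DerComp.RHom P).obj ((DerComp.derCompletion O I).obj G).obj, h⟩).symm
      ((DerComp.RHom P).map (DerComp.toDerCompletion I G)) with hg'
  let a := DerComp.toDerCompletion I ((DerComp.RHom P).obj G)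
  let g : ((DerComp.derCompletion O I).obj ((DerComp.RHom P).obj G)).obj ⟶
    (DerComp.RHom P).obj ((DerComp.derCompletion O I).obj G).obj := g'.hom
  have hag : a ≫ g = (DerComp.RHom P).map (DerComp.toDerCompletion I G) := by
    have h1 := ((DerComp.derCompletionAdj O I).homEquiv ((DerComp.RHom P).obj G)
      ⟨(DerComp.RHom P).obj ((DerComp.derCompletion O I).obj G).obj, h⟩).apply_symm_apply
      ((DerComp.RHom P).map (DerComp.toDerCompletion I G))
    rw [Adjunction.homEquiv_unit] at h1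
    exact h1
  have key : IsIso g := by
    refine isIso_of_locally O (fun V => ∃ (r : ℕ) (a : Fin r → O.obj.obj (op V)),
      (I.over V).IsGenBy fun i => DerComp.GSec.ofSect O V (a i)) hI g ?_
    rintro V ⟨r, b, hb⟩
    have := K780.Glob.hasProduct (O := O.over V)
    have h1 := cEq_of_dEq O I _ (dEq_unit O I G) V b hb
    have h2 := CEq.of_nEq (nEq_rhom O V P _ _ (NEq.of_cEq h1))
    have h3 := cEq_of_dEq O I _ (dEq_unit O I ((DerComp.RHom P).obj G)) V b hb
    have hiff : ∀ K, DerComp.IsDerComp (O.over V) (I.over V) K →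
        ∀ s ∈ List.ofFn fun i => DerComp.GSec.ofSect O V (b i), IsCompl s K := fun K hK s hs => by
      obtain ⟨i, rfl⟩ := List.mem_ofFn.1 hs
      exact (K780.GenBy.isDerComp_iff_of_isGenBy hb K).1 hK i
    refine isIso_of_cEq (fun K => ∀ s ∈ List.ofFn fun i => DerComp.GSec.ofSect O V (b i), IsCompl s K) _
      (hiff _ (isDerComp_res O I ((DerComp.derCompletion O I).obj ((DerComp.RHom P).obj G)).property V))
      (hiff _ (isDerComp_res O I h V)) fun Y hY => ?_
    have h4 := h2 Y hY
    have e : (fun φ : (resD O V).obj ((DerComp.RHom P).obj ((DerComp.derCompletion O I).obj G).obj) ⟶ Y =>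
        (resD O V).map ((DerComp.RHom P).map (DerComp.toDerCompletion I G)) ≫ φ) =
        (fun φ => (resD O V).map a ≫ φ) ∘ (fun φ => (resD O V).map g ≫ φ) := by
      funext φ
      rw [← hag, Functor.map_comp, Category.assoc]
      rfl
    rw [e] at h4
    exact (Function.Bijective.of_comp_iff' (h3 Y hY) _).1 h4
  have : IsIso ((DerComp.IsDerComp O I).ι.map g') := key
  exact isIso_of_reflects_iso g' (DerComp.IsDerComp O I).ι

end K302.RHomCE
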