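import Groth.Agent.DerComp.K302.Loc

/-!
# Multiplication by a global section on sheafifications and on tensor products
-/

set_option autoImplicit false

universe v u w v' u'

open CategoryTheory CategoryTheory.Limits Opposite MonoidalCategory

namespace K302.SmulTens

variable {C : Type u} [SmallCategory C] {J : GrothendieckTopology C} {O : Sheaf J CommRingCat.{u}}
  (s : DerComp.GSec O)

open scoped K291.Mon
open K291.Mon

/-- the component of a global section -/
abbrev vP (X : Cᵒᵖ) : (O.obj ⋙ forget₂ CommRingCat.{u} RingCat.{u}).obj X := (s.1 X.unop : O.obj.obj X)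

/-- Multiplication by a global section on a presheaf of modules. -/
noncomputable def smulP (P : PM O) : P ⟶ P where
  app X := ModuleCat.ofHom
      { toFun := fun x => vP s X • x
        map_add' := fun x y => smul_add _ x y
        map_smul' := fun r x => by
          rw [RingHom.id_apply, smul_smul, smul_smul]
          exact congrArg (fun t => t • x) (mul_comm (s.1 X.unop) (show O.obj.obj X from r)) }
  naturality := fun {X Y} g => by
        ext x
        dsimp
        rw [PresheafOfModules.map_smul]
        congr 1
        exact (s.2 g.unop).symm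

theorem smulP_app (P : PM O) (X : Cᵒᵖ) (x : P.obj X) : ((smulP s P).app X).hom x = vP s X • x := rfl

theorem smulP_comm {P Q : PM O} (φ : P ⟶ Q) : smulP s P ≫ φ = φ ≫ smulP s Q := by
  ext X x
  change (φ.app X).hom (vP s X • x) = vP s X • (φ.app X).hom x
  exact (φ.app X).hom.map_smul _ _

theorem smulP_toP (M : ModSite.Mod O) : smulP s ((toP O).obj M) = (toP O).map (DerComp.smulEnd s M) := rfl

theorem map_smulP (P : PM O) : (shP O).map (smulP s P) = DerComp.smulEnd s ((shP O).obj P) := by
  apply ((shAdj O).homEquiv _ _).injective
  rw [Adjunction.homEquiv_unit, Adjunction.homEquiv_unit]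
  have h1 := (shAdj O).unit.naturality (smulP s P)
  exact h1.symm.trans ((smulP_comm s ((shAdj O).unit.app P)).trans (by rfl))

theorem smulP_tensor (P Q : PM O) : smulP s (P ⊗ Q) = smulP s P ▷ Q := by
  ext1 X
  refine ModuleCat.MonoidalCategory.tensor_ext (R := O.obj.obj X) fun m n => ?_
  exact (TensorProduct.smul_tmul' (R := O.obj.obj X) (s.1 X.unop) m n)

/-- Multiplication by `s` on a tensor product. -/
theorem smul_tensor (M N : ModSite.Mod O) :
    ((ModSite.tensorBi O).map (DerComp.smulEnd s M)).app N = DerComp.smulEnd s (((ModSite.tensorBi O).obj M).obj N) := by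
  have h : (shP O).map (smulP s ((toP O).obj M) ▷ (toP O).obj N) =
      DerComp.smulEnd s ((shP O).obj ((toP O).obj M ⊗ (toP O).obj N)) := by
    rw [← smulP_tensor, map_smulP]
  exact h

end K302.SmulTens
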