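import Groth.Agent.DerComp.K302.LT
import Groth.Agent.DerComp.K302.SmulTens
import Groth.Agent.DerComp.K780.Res
import Groth.Agent.DerComp.K779.Bous
import Groth.Agent.ModSite.K291.Shriek2

/-!
# `RHom(P, L)` is derived complete if `L` is
-/

set_option autoImplicit false

universe v u w v' u'

open CategoryTheory CategoryTheory.Limits Opposite MonoidalCategory

attribute [local instance] HasDerivedCategory.standard

namespace K302.RHomCompl

open K780.Tele K780.Res K302.LT K302.Loc K302.SmulTens

variable {C : Type u} [SmallCategory C] {J : GrothendieckTopology C} (O : Sheaf J CommRingCat.{u})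

attribute [local instance] K780.Away.preservesFiniteLimits_extZero K780.Away.preservesFiniteColimits_extZero

section Proj

open scoped K291.Mon

variable (U : C) (A : ModSite.Mod (O.over U))

/-- the projection formula `j_! A ⊗ N = j_! (A ⊗ N|_U)`, naturally in `N`. -/
noncomputable def projIso : (ModSite.tensorBi O).obj ((ModSite.extZero O U).obj A) ≅
    ModSite.restr O U ⋙ (ModSite.tensorBi (O.over U)).obj A ⋙ ModSite.extZero O U :=
  NatIso.ofComponents (fun N => ((K291.Shriek.proj O U N).app A).symm)
    (fun g => (K291.Shriek.proj_inv_natural_right g A).symm)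

end Proj

/-- `f` is invertible on complexes of the form `O_f ⊗ N`. -/
theorem invt_Q {s : DerComp.GSec O} {A : ModSite.Mod O} (hA : IsIso (DerComp.smulEnd s A))
    (N : CochainComplex (ModSite.Mod O) ℤ) :
    Invt s (DerivedCategory.Q.obj ((((ModSite.tensorBi O).obj A).mapHomologicalComplex (ComplexShape.up ℤ)).obj N)) := by
  set Z := (((ModSite.tensorBi O).obj A).mapHomologicalComplex (ComplexShape.up ℤ)).obj N
  have h1 : IsIso (s • 𝟙 Z) := by
    have : ∀ n, IsIso ((s • 𝟙 Z).f n) := by
      intro n
      have h3 : (s • 𝟙 Z).f n = DerComp.smulEnd s (Z.X n) := Category.comp_id _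
      rw [h3]
      have h4 := smul_tensor s A (N.X n)
      have h5 : IsIso (((ModSite.tensorBi O).map (DerComp.smulEnd s A)).app (N.X n)) := inferInstance
      rw [h4] at h5
      exact h5
    exact HomologicalComplex.Hom.isIso_of_components _
  have h2 : s • 𝟙 (DerivedCategory.Q.obj Z) = DerivedCategory.Q.map (s • 𝟙 Z) := by
    rw [Functor.map_smul, CategoryTheory.Functor.map_id]
  unfold Invt
  rw [h2]
  infer_instance

theorem isCompl_res {I : DerComp.IdealSh O} {L : DerivedCategory (ModSite.Mod O)} (hL : DerComp.IsDerComp O I L)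
    (U : C) (f : O.obj.obj (op U)) (hf : f ∈ I.ideal U) :
    IsCompl (DerComp.GSec.ofSect O U f) ((resD O U).obj L) := by
  rw [K780.Glob.isCompl_iff]
  intro V n
  exact (van_res O L V ((O.obj.map V.hom.op).hom f)).2 (fun n => hL V.left _ (I.map_mem V.hom hf) n) n


variable (U : C) (A : ModSite.Mod (O.over U)) (P : CochainComplex (ModSite.Mod O) ℤ)

/-- `A ⊗ P|_U` -/
noncomputable abbrev ZU : CochainComplex (ModSite.Mod (O.over U)) ℤ :=
  (((ModSite.tensorBi (O.over U)).obj A).mapHomologicalComplex (ComplexShape.up ℤ)).obj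
    (((ModSite.restr O U).mapHomologicalComplex (ComplexShape.up ℤ)).obj P)

/-- the projection formula for complexes -/
noncomputable def projCx : ((ModSite.tensorCx O).obj
      ((CochainComplex.singleFunctor (ModSite.Mod O) 0).obj ((ModSite.extZero O U).obj A))).obj P ≅
    ((ModSite.extZero O U).mapHomologicalComplex (ComplexShape.up ℤ)).obj (ZU O U A P) :=
  (Groth.Agent.Dcoh.TensSingle.singleLeftIsoApp (ModSite.tensorBi O) ((ModSite.extZero O U).obj A) P).symm ≪≫
    (NatIso.mapHomologicalComplex (projIso O U A) (ComplexShape.up ℤ)).app P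


/-- `(j_! A)[0] ⊗^L P = j_! (A ⊗ P|_U)` and its shifts. -/
noncomputable def ltIso [ModSite.HasLTensorCx P] (hA : ModSite.IsFlat A) (m : ℤ) :
    (ModSite.LTensorCx P).obj (DerivedCategory.Q.obj
      (((CochainComplex.singleFunctor (ModSite.Mod O) 0).obj ((ModSite.extZero O U).obj A))⟦m⟧)) ≅
    (ModSite.extZero O U).mapDerivedCategory.obj ((DerivedCategory.Q.obj (ZU O U A P))⟦m⟧) :=
  isoQ P _ (K294.KFl.isKFlat_shift (K294.KFlat2.isKFlat_single _ (K291.Shriek.isFlat_extZero hA) 0) m) ≪≫
    DerivedCategory.Q.mapIso (CochainComplex.mapBifunctorShift₁Iso _ P (ModSite.tensorBi O) m) ≪≫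
    (DerivedCategory.Q.commShiftIso m).app _ ≪≫
    (shiftFunctor _ m).mapIso (DerivedCategory.Q.mapIso (projCx O U A P) ≪≫
      ((ModSite.extZero O U).mapDerivedCategoryFactors.app (ZU O U A P)).symm) ≪≫
    (((ModSite.extZero O U).mapDerivedCategory.commShiftIso m).app _).symm

/-- **`RHom(P, L)` is derived complete if `L` is.** -/
theorem isDerComp [ModSite.HasLTensorCx P] [DerComp.HasRHom P] (I : DerComp.IdealSh O)
    (L : DerivedCategory (ModSite.Mod O)) (hL : DerComp.IsDerComp O I L) :
    DerComp.IsDerComp O I ((DerComp.RHom P).obj L) := by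
  intro U f hf n
  have hc := isCompl_res O hL U f hf
  have hA : ModSite.IsFlat (DerComp.awayOver O U f) := isFlat_locAway _ _ (K291.Flat.isFlat_unit _)
  have hi := isIso_smulEnd_locAway (DerComp.GSec.ofSect O U f) (ModSite.unit (O.over U))
  have hZ : Invt (DerComp.GSec.ofSect O U f) (DerivedCategory.Q.obj (ZU O U (DerComp.awayOver O U f) P)) := invt_Q _ hi _
  have h0 : Subsingleton ((DerivedCategory.Q.obj (ZU O U (DerComp.awayOver O U f) P))⟦-n⟧ ⟶ (resD O U).obj L) := by
    refine ⟨fun x y => ?_⟩
    rw [← sub_eq_zero]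
    exact (hZ.shift (-n)).eq_zero hc _
  have h1 : Subsingleton ((ModSite.extZero O U).mapDerivedCategory.obj
      ((DerivedCategory.Q.obj (ZU O U (DerComp.awayOver O U f) P))⟦-n⟧) ⟶ L) :=
    ((Groth.Agent.CohtopB.ExactDerAdj.derivedAdj (ModSite.extZeroAdj O U)).homEquiv _ _).subsingleton
  have h2 := K779.Bous.subsingleton_of_iso (ltIso O U (DerComp.awayOver O U f) P hA (-n)).symm (Iso.refl L) h1
  have h3 : Subsingleton (DerivedCategory.Q.obj
      (((CochainComplex.singleFunctor (ModSite.Mod O) 0).obj ((ModSite.extZero O U).obj (DerComp.awayOver O U f)))⟦-n⟧) ⟶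
        (DerComp.RHom P).obj L) := ((DerComp.RHomAdj P).homEquiv _ _).symm.subsingleton
  have h4 := K779.Bous.subsingleton_of_iso ((DerivedCategory.Q.commShiftIso (-n)).app _) (Iso.refl _) h3
  have h5 : Subsingleton ((shiftEquiv (DerivedCategory (ModSite.Mod O)) n).symm.functor.obj
      (SiteCmp.inD O ((ModSite.extZero O U).obj (DerComp.awayOver O U f))) ⟶ (DerComp.RHom P).obj L) := h4
  exact ((shiftEquiv (DerivedCategory (ModSite.Mod O)) n).symm.toAdjunction.homEquiv _ _).symm.subsingleton

end K302.RHomCompl
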